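/-
Job 60 of the S14900 plan (helper26): the step from domains to reduced rings.

Over a valuation ring `R`, if for all domains `A` of finite type over `R` (with `R → A` injective)
the integral closure of `A` in `A ⊗ Frac R` is a finite `A`-module, then the same holds for every
flat `R`-algebra `A` of finite type whose generic fibre `B` is reduced.
-/
import Mathlib
import Groth.Agent.S0437

set_option autoImplicit false
universe u

open scoped nonZeroDivisors

namespace K365.FinRed

/-- Being integral over `A` or over a quotient `A'` of `A` is the same. -/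
theorem finite_of_surjective (A A' C : Type u) [CommRing A] [CommRing A'] [CommRing C]
    [Algebra A A'] [Algebra A' C] [Algebra A C] [IsScalarTower A A' C]
    (h : Function.Surjective (algebraMap A A')) (hf : Module.Finite A' (integralClosure A' C)) :
    Module.Finite A (integralClosure A C) := by
  have he : integralClosure A C = (integralClosure A' C).restrictScalars A := by
    ext x
    simp only [Subalgebra.mem_restrictScalars, mem_integralClosure_iff]
    constructor
    · exact fun hx => hx.tower_top
    · intro hx
      haveI : Algebra.IsIntegral A A' := Algebra.isIntegral_of_surjective h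
      exact isIntegral_trans x hx
  have : Module.Finite A A' := Module.Finite.of_surjective (Algebra.linearMap A A') h
  rw [he]
  exact Module.Finite.trans (R := A) A' (integralClosure A' C)

section Loc

variable (R : Type u) [CommRing R] [IsDomain R] (A : Type u) [CommRing A] [Algebra R A]
  (B : Type u) [CommRing B] [Algebra A B]
  [IsLocalization (Algebra.algebraMapSubmonoid A (nonZeroDivisors R)) B]

include R in
/-- The generic fibre is Noetherian. -/
theorem isNoetherianRing [Algebra.FiniteType R A] : IsNoetherianRing B := by
  have h1 : (algebraMap R A).FiniteType :=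
    (RingHom.finiteType_algebraMap (A := R) (B := A)).2 inferInstance
  have : IsLocalization (Submonoid.map (algebraMap R A) (nonZeroDivisors R)) B :=
    inferInstanceAs (IsLocalization (Algebra.algebraMapSubmonoid A (nonZeroDivisors R)) B)
  have h2 := RingHom.finiteType_localizationPreserves (algebraMap R A) (nonZeroDivisors R)
    (FractionRing R) B h1
  letI := (IsLocalization.map B (algebraMap R A)
    (Submonoid.le_comap_map (nonZeroDivisors R)) : FractionRing R →+* B).toAlgebra
  have : Algebra.FiniteType (FractionRing R) B := h2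
  exact Algebra.FiniteType.isNoetherianRing (FractionRing R) B

omit [IsDomain R] in
/-- The quotient of the localization is the localization of the quotient. -/
theorem isLocalization_quotient (p : Ideal A) :
    IsLocalization (Algebra.algebraMapSubmonoid (A ⧸ p) (nonZeroDivisors R))
      (B ⧸ p.map (algebraMap A B)) := by
  have h := (inferInstance : IsLocalization (Algebra.algebraMapSubmonoid (A ⧸ p)
    (Algebra.algebraMapSubmonoid A (nonZeroDivisors R))) (B ⧸ p.map (algebraMap A B)))
  have e : Algebra.algebraMapSubmonoid (A ⧸ p) (Algebra.algebraMapSubmonoid A (nonZeroDivisors R)) =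
      Algebra.algebraMapSubmonoid (A ⧸ p) (nonZeroDivisors R) := by
    unfold Algebra.algebraMapSubmonoid
    erw [Submonoid.map_map]
    rfl
  rwa [e] at h

include B in
/-- Nonzero elements of `R` do not lie in the contraction of a prime of `B`. -/
theorem injective_quotient (Q : Ideal B) [Q.IsPrime] :
    Function.Injective (algebraMap R (A ⧸ Q.comap (algebraMap A B))) := by
  rw [injective_iff_map_eq_zero]
  intro r hr
  by_contra hne
  have h1 : algebraMap R A r ∈ Q.comap (algebraMap A B) := by
    rw [← Ideal.Quotient.eq_zero_iff_mem]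
    exact hr
  have h2 : IsUnit (algebraMap A B (algebraMap R A r)) :=
    IsLocalization.map_units B (⟨algebraMap R A r,
      ⟨r, mem_nonZeroDivisors_of_ne_zero hne, rfl⟩⟩ :
        Algebra.algebraMapSubmonoid A (nonZeroDivisors R))
  exact (Ideal.IsPrime.ne_top ‹Q.IsPrime›) (Ideal.eq_top_of_isUnit_mem Q h1 h2)

end Loc

theorem finite_of_forall_isDomain (R : Type u) [CommRing R] [IsDomain R] [ValuationRing R]
    (hdom : ∀ (A : Type u) [CommRing A] [IsDomain A] [Algebra R A] [Algebra.FiniteType R A]
      (_ : Function.Injective (algebraMap R A)) (B : Type u) [CommRing B] [Algebra A B]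
      [IsLocalization (Algebra.algebraMapSubmonoid A (nonZeroDivisors R)) B],
      Module.Finite A (integralClosure A B))
    (A : Type u) [CommRing A] [Algebra R A] [Module.Flat R A] [Algebra.FiniteType R A]
    (B : Type u) [CommRing B] [Algebra A B]
    [IsLocalization (Algebra.algebraMapSubmonoid A (nonZeroDivisors R)) B] [IsReduced B] :
    Module.Finite A (integralClosure A B) := by
  classical
  have : IsNoetherianRing B := isNoetherianRing R A B
  have : Finite ↥(minimalPrimes B) := (minimalPrimes.finite_of_isNoetherianRing B).to_subtype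
  have : Fintype ↥(minimalPrimes B) := Fintype.ofFinite _
  have hprime : ∀ Q : ↥(minimalPrimes B), Q.1.IsPrime := fun Q =>
    Ideal.minimalPrimes_isPrime Q.2
  let p : ↥(minimalPrimes B) → Ideal A := fun Q => Q.1.comap (algebraMap A B)
  have hp : ∀ Q, (p Q).map (algebraMap A B) = Q.1 := fun Q =>
    IsLocalization.map_under (Algebra.algebraMapSubmonoid A (nonZeroDivisors R)) B Q.1
  -- the intersection of the minimal primes is zero
  have hbot : ∀ x : B, (∀ Q : ↥(minimalPrimes B), x ∈ (p Q).map (algebraMap A B)) → x = 0 := by
    intro x hx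
    have h0 : (⊥ : Ideal B).radical = ⊥ := by
      have := (nilradical_eq_zero B : nilradical B = 0)
      exact this
    have h1 : x ∈ sInf (⊥ : Ideal B).minimalPrimes := by
      rw [Submodule.mem_sInf]
      intro Q hQ
      have := hx ⟨Q, hQ⟩
      rwa [hp] at this
    rw [Ideal.sInf_minimalPrimes, h0] at h1
    exact h1
  -- the components
  let C : ↥(minimalPrimes B) → Type u := fun Q => B ⧸ (p Q).map (algebraMap A B)
  have hC : ∀ Q, Module.Finite A (integralClosure A (C Q)) := by
    intro Q
    have : (p Q).IsPrime := Ideal.IsPrime.comap _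
    have := isLocalization_quotient R A B (p Q)
    have h3 : Module.Finite (A ⧸ p Q) (integralClosure (A ⧸ p Q) (C Q)) :=
      hdom (A ⧸ p Q) (injective_quotient R A B Q.1) (C Q)
    exact finite_of_surjective A (A ⧸ p Q) (C Q) Ideal.Quotient.mk_surjective h3
  let Φ : B →ₗ[A] (Π Q, C Q) := LinearMap.pi fun Q =>
    (Ideal.Quotient.mkₐ A ((p Q).map (algebraMap A B))).toLinearMap
  have hΦ : ∀ x Q, Φ x Q = Ideal.Quotient.mk ((p Q).map (algebraMap A B)) x := fun x Q => rfl
  have hΦinj : Function.Injective Φ := by
    rw [injective_iff_map_eq_zero]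
    intro x hx
    apply hbot
    intro Q
    rw [← Ideal.Quotient.eq_zero_iff_mem, ← hΦ, hx]
    rfl
  have hint : ∀ x : B, IsIntegral A x ↔ ∀ Q, IsIntegral A (Φ x Q) := by
    intro x
    constructor
    · intro hx Q
      exact hx.map (Ideal.Quotient.mkₐ A ((p Q).map (algebraMap A B)))
    · intro hx
      choose F hF1 hF2 using hx
      refine ⟨∏ Q, F Q, Polynomial.monic_prod_of_monic _ _ fun Q _ => hF1 Q, ?_⟩
      apply hbot
      intro Q
      rw [Polynomial.eval₂_finsetProd]
      refine Ideal.mem_of_dvd _ (Finset.dvd_prod_of_mem _ (Finset.mem_univ Q)) ?_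
      rw [← Ideal.Quotient.eq_zero_iff_mem]
      have := hF2 Q
      rw [hΦ] at this
      rw [Polynomial.hom_eval₂]
      exact this
  let N : Submodule A (Π Q, C Q) :=
    Submodule.pi Set.univ (fun Q => Subalgebra.toSubmodule (integralClosure A (C Q)))
  have hN : ∀ z : (Π Q, C Q), z ∈ N ↔ ∀ Q, IsIntegral A (z Q) := by
    intro z
    simp [N, Submodule.mem_pi, mem_integralClosure_iff]
  have hNfin : Module.Finite A N := by
    apply Module.Finite.of_fg
    apply Submodule.fg_pi
    intro Q
    exact (Module.Finite.iff_fg).1 (hC Q)
  let ψ : N →ₗ[A] ((Π Q, C Q) ⧸ LinearMap.range Φ) :=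
    (Submodule.mkQ (LinearMap.range Φ)) ∘ₗ N.subtype
  letI : Module R (LinearMap.range ψ) := Module.compHom _ (algebraMap R A)
  have : IsScalarTower R A (LinearMap.range ψ) := IsScalarTower.of_algebraMap_smul fun r m => rfl
  have : Module.Flat R (LinearMap.range ψ) := by
    rw [Module.Flat.flat_iff_torsion_eq_bot_of_isBezout, eq_bot_iff]
    rintro ⟨m, hm⟩ ⟨⟨r, hr⟩, h⟩
    have h1 : algebraMap R A r • m = 0 := congrArg Subtype.val h
    obtain ⟨z, rfl⟩ := Submodule.Quotient.mk_surjective _ m
    rw [← Submodule.Quotient.mk_smul, Submodule.Quotient.mk_eq_zero] at h1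
    obtain ⟨b, hb⟩ := h1
    have hu : IsUnit (algebraMap A B (algebraMap R A r)) :=
      IsLocalization.map_units B (⟨algebraMap R A r, ⟨r, hr, rfl⟩⟩ :
        Algebra.algebraMapSubmonoid A (nonZeroDivisors R))
    obtain ⟨u, hu⟩ := hu
    have h2 : z ∈ LinearMap.range Φ := by
      refine ⟨(↑u⁻¹ : B) * b, ?_⟩
      funext Q
      have h3 : Ideal.Quotient.mk ((p Q).map (algebraMap A B)) b = algebraMap R A r • z Q := by
        rw [← hΦ, hb]
        rfl
      rw [hΦ, map_mul, h3, Algebra.smul_def, ← mul_assoc]
      have h4 : algebraMap A (C Q) (algebraMap R A r) =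
          Ideal.Quotient.mk ((p Q).map (algebraMap A B)) (u : B) := by
        rw [hu]
        rfl
      rw [h4, ← map_mul, Units.inv_mul, map_one, one_mul]
    rw [Submodule.mem_bot]
    apply Subtype.ext
    exact (Submodule.Quotient.mk_eq_zero _).2 h2
  have : Module.FinitePresentation A (LinearMap.range ψ) :=
    Groth.Agent.S0437.result (A := R) (B := A)
  have hk : (LinearMap.ker ψ.rangeRestrict).FG :=
    Module.FinitePresentation.fg_ker _ ψ.surjective_rangeRestrict
  rw [LinearMap.ker_rangeRestrict] at hk
  have : Module.Finite A (LinearMap.ker ψ) := Module.Finite.of_fg hk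
  -- the integral closure of `A` in `B` is the kernel of `ψ`
  let j : (Subalgebra.toSubmodule (integralClosure A B)) →ₗ[A] N :=
    LinearMap.codRestrict N (Φ ∘ₗ (Subalgebra.toSubmodule (integralClosure A B)).subtype)
      (fun x => (hN _).2 ((hint x.1).1 x.2))
  have hj : Function.Injective j := by
    intro x y hxy
    apply Subtype.ext
    apply hΦinj
    exact congrArg Subtype.val hxy
  have hjr : LinearMap.range j = LinearMap.ker ψ := by
    ext ⟨z, hz⟩
    rw [LinearMap.mem_ker, LinearMap.mem_range]
    constructor
    · rintro ⟨x, hx⟩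
      have h5 : Φ x.1 = z := congrArg Subtype.val hx
      exact (Submodule.Quotient.mk_eq_zero _).2 ⟨x.1, h5⟩
    · intro hx
      obtain ⟨b, hb⟩ := (Submodule.Quotient.mk_eq_zero _).1 hx
      have hb' : Φ b = z := hb
      refine ⟨⟨b, (hint b).2 ?_⟩, ?_⟩
      · rw [hb']
        exact (hN z).1 hz
      · apply Subtype.ext
        exact hb'
  have : Module.Finite A (LinearMap.range j) := by
    rw [hjr]
    infer_instance
  exact Module.Finite.equiv (LinearEquiv.ofInjective j hj).symm

end K365.FinRed
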